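import Cfsg.Agent.H90.R4.Lam
import Cfsg.Agent.H692.RealOver
import Cfsg.Agent.H604.FS
import Cfsg.Agent.H619.R4.Defs
import Cfsg.Agent.H710.VanCount
import Cfsg.Agent.S0898

/-!
# Real characters at a prime exactly dividing the group order (helper90, for S4554)

`p` an odd prime exactly dividing `|G|`, `x` an element of order `p` conjugate to its inverse,
`C = C(x)`, `L` the linear character of `C` with kernel the normal `p`-complement.
`D L χ = [χ_C, 1 - L]`. Then `∑ D χ * χ(1) = 0`, `∑ ν(χ) D χ = 1` and `D` is invariant under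
complex conjugation.

* `prime_even` : a real irreducible character of even degree prime to `p`, not trivial on `N ∋ x`,
  if `G / N` is abelian;
* `prime_odd` : one of odd degree prime to `p`, if `|G : C N|` is odd.
-/

set_option autoImplicit false
set_option linter.unusedSectionVars false

namespace Cfsg.Agent.H90.R4.Prime

open Cfsg Cfsg.Agent.Characters.Core Cfsg.Agent.H686.CharKit Cfsg.Agent.H90.R4.Lam
open Cfsg.Agent.H692.RealOver Cfsg.Agent.H692.RealAct
open Cfsg.Agent.H604.FS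
open scoped ComplexConjugate

universe u
variable {G : Type u} [Group G]

/-- the coefficient `[f_C, 1 - L]` -/
noncomputable def D {H : Subgroup G} [Fintype H] (L : H →* ℂˣ) (f : G → ℂ) : ℂ :=
  (Nat.card H : ℂ)⁻¹ * ∑ c : H, f c * (1 - conj ((L c : ℂˣ) : ℂ))

theorem D_eq {H : Subgroup G} [Fintype H] (L : H →* ℂˣ) (f : G → ℂ) :
    D L f = classInner (fun c : H => f c) (1 : H → ℂ) -
      classInner (fun c : H => f c) (fun c : H => ((L c : ℂˣ) : ℂ)) := by
  rw [classInner_def, classInner_def, ← mul_sub, ← Finset.sum_sub_distrib]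
  unfold D
  congr 1
  refine Finset.sum_congr rfl fun c _ => ?_
  rw [Pi.one_apply, map_one]
  ring

variable [Finite G]

theorem D_int {H : Subgroup G} [Fintype H] (L : H →* ℂˣ) {f : G → ℂ} (hf : IsCharacter G f) :
    ∃ z : ℤ, D L f = z := by
  have h1 : IsCharacter H (fun c : H => f c) :=
    Cfsg.Agent.Characters.Clifford.isCharacter_restrict H hf
  obtain ⟨a, ha⟩ := classInner_isNat h1 (isCharacter_one (G := H))
  obtain ⟨b, hb⟩ := classInner_isNat h1 (Cfsg.Agent.Characters.Linear.isCharacter_hom L)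
  refine ⟨(a : ℤ) - b, ?_⟩
  rw [D_eq, ha, hb]
  push_cast
  ring

section Data

variable {p : ℕ} (hp : p.Prime) (hsq : ¬ p ^ 2 ∣ Nat.card G) {x : G} (hx : orderOf x = p)
  (L : Subgroup.centralizer ({x} : Set G) →* ℂˣ) (hL : ∀ c, L c = 1 ↔ ¬ p ∣ orderOf (c : G))

/-- (a) -/
theorem sum_D_deg [Fintype (IrrCharacter G)] {H : Subgroup G} [Fintype H] (L : H →* ℂˣ) :
    ∑ χ : IrrCharacter G, D L (χ : G → ℂ) * (χ : G → ℂ) 1 = 0 := by
  classical
  unfold D
  simp_rw [mul_assoc, Finset.sum_mul]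
  rw [← Finset.mul_sum, Finset.sum_comm]
  rw [Finset.sum_eq_zero, mul_zero]
  intro c _
  have h1 : ∑ χ : IrrCharacter G, (χ : G → ℂ) c * (1 - conj ((L c : ℂˣ) : ℂ)) * (χ : G → ℂ) 1 =
      (1 - conj ((L c : ℂˣ) : ℂ)) * ∑ χ : IrrCharacter G, (χ : G → ℂ) c * conj ((χ : G → ℂ) 1) := by
    rw [Finset.mul_sum]
    refine Finset.sum_congr rfl fun χ _ => ?_
    rw [← charDegree_irr, Complex.conj_natCast]
    ring
  rw [h1, col_orth]
  by_cases hc : IsConj (c : G) 1
  · have h2 : c = 1 := Subtype.ext (isConj_one_left.1 hc)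
    rw [h2, map_one, Units.val_one, map_one, sub_self, zero_mul]
  · rw [if_neg hc, mul_zero]

include hp hsq hx hL in
theorem sqrt_mem {c : Subgroup.centralizer ({x} : Set G)} (hc : L c ≠ 1) {u : G}
    (hu : u * u = c) : u ∈ Subgroup.centralizer ({x} : Set G) := by
  rw [Ne, hL, not_not] at hc
  have h1 : x ∈ Subgroup.zpowers (c : G) :=
    mem_zpowers_of_dvd hp hsq hx (mem_cent.1 c.2) hc
  obtain ⟨i, hi⟩ := h1
  have hi' : (c : G) ^ i = x := hi
  rw [mem_cent]
  have h2 : Commute u (c : G) := by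
    rw [← hu]
    exact (Commute.refl u).mul_right (Commute.refl u)
  have h3 := h2.zpow_right i
  rw [hi'] at h3
  exact h3

include hp hsq hx hL in
/-- (b) -/
theorem sum_ind_D (hp2 : p ≠ 2) [Fintype G] [Fintype (IrrCharacter G)]
    [Fintype (Subgroup.centralizer ({x} : Set G))] :
    ∑ χ : IrrCharacter G, (ind χ : ℂ) * D L (χ : G → ℂ) = 1 := by
  classical
  have hcard : (Nat.card (Subgroup.centralizer ({x} : Set G)) : ℂ) ≠ 0 := by
    exact_mod_cast Nat.card_pos.ne'
  -- reduce to the square roots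
  have h1 : ∑ χ : IrrCharacter G, (ind χ : ℂ) * D L (χ : G → ℂ) =
      (Nat.card (Subgroup.centralizer ({x} : Set G)) : ℂ)⁻¹ * ∑ c : Subgroup.centralizer ({x} : Set G), (Nat.card {u : G // u * u = c} : ℂ) *
        (1 - conj ((L c : ℂˣ) : ℂ)) := by
    unfold D
    have e1 : ∀ χ : IrrCharacter G, (ind χ : ℂ) * ((Nat.card (Subgroup.centralizer ({x} : Set G)) : ℂ)⁻¹ *
        ∑ c : Subgroup.centralizer ({x} : Set G), (χ : G → ℂ) c * (1 - conj ((L c : ℂˣ) : ℂ))) =
        (Nat.card (Subgroup.centralizer ({x} : Set G)) : ℂ)⁻¹ * ∑ c : Subgroup.centralizer ({x} : Set G), (ind χ : ℂ) * (χ : G → ℂ) c *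
          (1 - conj ((L c : ℂˣ) : ℂ)) := by
      intro χ
      rw [mul_left_comm, Finset.mul_sum]
      congr 1
      exact Finset.sum_congr rfl fun c _ => by ring
    rw [Finset.sum_congr rfl fun χ _ => e1 χ, ← Finset.mul_sum, Finset.sum_comm]
    congr 1
    refine Finset.sum_congr rfl fun c _ => ?_
    rw [← Finset.sum_mul, sum_ind]
  have h2 : ∀ c : Subgroup.centralizer ({x} : Set G), (Nat.card {u : G // u * u = c} : ℂ) * (1 - conj ((L c : ℂˣ) : ℂ)) =
      (Nat.card {u : Subgroup.centralizer ({x} : Set G) // u * u = c} : ℂ) * (1 - conj ((L c : ℂˣ) : ℂ)) := by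
    intro c
    by_cases hc : L c = 1
    · rw [hc, Units.val_one, map_one, sub_self, mul_zero, mul_zero]
    · congr 2
      refine Nat.card_congr ⟨fun u => ⟨⟨u.1, sqrt_mem hp hsq hx L hL hc u.2⟩, Subtype.ext u.2⟩,
        fun u => ⟨u.1, congrArg Subtype.val u.2⟩, fun u => rfl, fun u => rfl⟩
  have h3 : ∑ c : Subgroup.centralizer ({x} : Set G), (Nat.card {u : Subgroup.centralizer ({x} : Set G) // u * u = c} : ℂ) * (1 - conj ((L c : ℂˣ) : ℂ)) =
      ∑ u : Subgroup.centralizer ({x} : Set G), (1 - conj ((L (u * u) : ℂˣ) : ℂ)) := by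
    exact Cfsg.Agent.H692.SqRoot.sum_sqrtCount_mul (G := Subgroup.centralizer ({x} : Set G))
      (fun c => 1 - conj ((L c : ℂˣ) : ℂ))
  have h4 : ∑ u : Subgroup.centralizer ({x} : Set G), conj ((L (u * u) : ℂˣ) : ℂ) = 0 := by
    -- translate by `x`
    set x' : Subgroup.centralizer ({x} : Set G) := ⟨x, mem_cent.2 rfl⟩ with hx'
    have e0 : ∑ u : Subgroup.centralizer ({x} : Set G), ((L (u * u) : ℂˣ) : ℂ) = 0 := by
      have e1 : ∑ u : Subgroup.centralizer ({x} : Set G), ((L (u * u) : ℂˣ) : ℂ) =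
          ((L (x' * x') : ℂˣ) : ℂ) * ∑ u : Subgroup.centralizer ({x} : Set G), ((L (u * u) : ℂˣ) : ℂ) := by
        rw [Finset.mul_sum]
        refine (Fintype.sum_equiv (Equiv.mulLeft x') _ _ fun u => ?_).symm
        rw [Equiv.coe_mulLeft]
        simp only [map_mul, Units.val_mul]
        ring
      have e2 : ((L (x' * x') : ℂˣ) : ℂ) ≠ 1 := by
        intro h
        have e3 : L (x' * x') = 1 := Units.ext h
        rw [hL] at e3
        apply e3
        have e4 : ((x' * x' : Subgroup.centralizer ({x} : Set G)) : G) = x ^ 2 := by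
          rw [pow_two]
          rfl
        rw [e4, Nat.Coprime.orderOf_pow (by
          rw [hx]
          exact (Nat.coprime_primes hp Nat.prime_two).2 hp2), hx]
      have e3 : (1 - ((L (x' * x') : ℂˣ) : ℂ)) * ∑ u : Subgroup.centralizer ({x} : Set G), ((L (u * u) : ℂˣ) : ℂ) = 0 := by
        rw [sub_mul, one_mul, ← e1, sub_self]
      rcases mul_eq_zero.1 e3 with e4 | e4
      · exact absurd (sub_eq_zero.1 e4).symm e2
      · exact e4
    rw [← map_sum, e0, map_zero]
  rw [h1, Finset.sum_congr rfl fun c _ => h2 c, h3, Finset.sum_sub_distrib, h4, sub_zero,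
    Finset.sum_const, Finset.card_univ, nsmul_eq_mul, mul_one, ← Nat.card_eq_fintype_card,
    inv_mul_cancel₀ hcard]

include hp hsq hx hL in
/-- (c) -/
theorem D_conj {g : G} (hg : g * x * g⁻¹ = x⁻¹) [Fintype (Subgroup.centralizer ({x} : Set G))]
    (χ : IrrCharacter G) : D L (irrConj χ : G → ℂ) = D L (χ : G → ℂ) := by
  classical
  have hcen : ∀ y, y ∈ Subgroup.centralizer ({x} : Set G) → g * y * g⁻¹ ∈
      Subgroup.centralizer ({x} : Set G) := by
    intro y hy
    rw [mem_cent] at hy ⊢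
    have h1 : g⁻¹ * x * g = x⁻¹ := by
      have h2 := congrArg (fun z => z⁻¹) hg
      simp only [mul_inv_rev, inv_inv] at h2
      calc g⁻¹ * x * g = g⁻¹ * (g * (x⁻¹ * g⁻¹)) * g := by rw [h2]
        _ = x⁻¹ := by group
    have h2 : y * x⁻¹ = x⁻¹ * y := by
      have h3 : Commute y x := hy
      exact h3.inv_right
    calc g * y * g⁻¹ * x = g * (y * (g⁻¹ * x * g)) * g⁻¹ := by group
      _ = g * (x⁻¹ * y) * g⁻¹ := by rw [h1, h2]
      _ = g * ((g⁻¹ * x * g) * y) * g⁻¹ := by rw [h1]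
      _ = x * (g * y * g⁻¹) := by group
  have hD : D L (irrConj χ : G → ℂ) = conj (D L (χ : G → ℂ)) := by
    -- the substitution `c ↦ g c g⁻¹` and `c ↦ c⁻¹`
    let φ : Subgroup.centralizer ({x} : Set G) → Subgroup.centralizer ({x} : Set G) :=
      fun c => ⟨g * c * g⁻¹, hcen c c.2⟩
    have hφ : Function.Bijective φ := by
      rw [← Finite.injective_iff_bijective]
      intro a b hab
      have h1 : g * (a : G) * g⁻¹ = g * b * g⁻¹ := congrArg Subtype.val hab
      exact Subtype.ext (by simpa using h1)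
    unfold D
    rw [map_mul, map_inv₀, map_natCast, map_sum]
    congr 1
    refine (Fintype.sum_bijective φ hφ _ _ fun c => ?_).symm
    rw [map_mul, irrConj_apply]
    have h1 : (χ : G → ℂ) (φ c : G) = (χ : G → ℂ) c := isIrr_isClassFunction χ.2 (c : G) g
    have h2 : L (φ c) = (L c)⁻¹ := lam_conj hp hsq hx L hL hg c (hcen c c.2)
    rw [h1, h2]
    congr 1
    rw [map_sub, map_one, Complex.conj_conj]
    have h3 := Cfsg.Agent.Characters.Linear.norm_hom_apply L c
    have h4 : ((L c : ℂˣ) : ℂ) * conj ((L c : ℂˣ) : ℂ) = 1 := by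
      rw [Complex.mul_conj, Complex.normSq_eq_norm_sq, h3]
      simp
    rw [Units.val_inv_eq_inv_val, map_inv₀]
    congr 1
    exact eq_inv_of_mul_eq_one_left h4
  obtain ⟨z, hz⟩ := D_int L (isIrr_isCharacter χ.2)
  rw [hD, hz]
  exact map_intCast _ z

include hp hsq hL in
/-- A character whose degree is divisible by `p` has coefficient `0`. -/
theorem D_eq_zero [Fintype (Subgroup.centralizer ({x} : Set G))] (hdvd : p ∣ Nat.card G)
    (χ : IrrCharacter G) (h : p ∣ charDegree (χ : G → ℂ)) : D L (χ : G → ℂ) = 0 := by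
  unfold D
  rw [Finset.sum_eq_zero, mul_zero]
  intro c _
  by_cases hc : L c = 1
  · rw [hc, Units.val_one, map_one, sub_self, mul_zero]
  · have hc' : p ∣ orderOf (c : G) := by
      by_contra hcon
      exact hc ((hL c).2 hcon)
    have h1 : (Nat.card G).factorization p = 1 := by
      apply le_antisymm
      · by_contra hcon
        rw [not_le] at hcon
        exact hsq ((pow_dvd_pow p hcon).trans (Nat.ordProj_dvd _ _))
      · exact (hp.dvd_iff_one_le_factorization Nat.card_pos.ne').1 hdvd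
    rw [defect_zero_vanish χ.2 p hp (by rw [h1, pow_one]; exact h) hc', zero_mul]

end Data

/-- The degree sum over the irreducible characters trivial on `N`. -/
theorem sum_T {x : G} (L : Subgroup.centralizer ({x} : Set G) →* ℂˣ)
    [Fintype (Subgroup.centralizer ({x} : Set G))] (hLx : L ⟨x, mem_cent.2 rfl⟩ ≠ 1)
    [Fintype (IrrCharacter G)]
    (N : Subgroup G) [N.Normal] (hxN : x ∈ N) [DecidablePred fun χ : IrrCharacter G => N ≤ chKer χ] :
    (∑ χ ∈ Finset.univ.filter (fun χ : IrrCharacter G => N ≤ chKer χ),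
      D L (χ : G → ℂ) * (χ : G → ℂ) 1) *
      (N.relIndex (Subgroup.centralizer ({x} : Set G)) : ℂ) = N.index := by
  classical
  have := Fintype.ofFinite G
  have := finite_irr (G := G ⧸ N)
  have := Fintype.ofFinite (IrrCharacter (G ⧸ N))
  have hcard : (Nat.card (Subgroup.centralizer ({x} : Set G)) : ℂ) ≠ 0 := by
    exact_mod_cast Nat.card_pos.ne'
  -- the sum over the characters of the quotient
  have h1 : ∀ c : G, ∑ χ ∈ Finset.univ.filter (fun χ : IrrCharacter G => N ≤ chKer χ),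
      (χ : G → ℂ) c * (χ : G → ℂ) 1 = if c ∈ N then (N.index : ℂ) else 0 := by
    intro c
    have e1 : ∑ χ ∈ Finset.univ.filter (fun χ : IrrCharacter G => N ≤ chKer χ),
        (χ : G → ℂ) c * (χ : G → ℂ) 1 =
        ∑ ψ : IrrCharacter (G ⧸ N), (ψ : G ⧸ N → ℂ) (c : G ⧸ N) * conj ((ψ : G ⧸ N → ℂ) 1) := by
      rw [← Finset.sum_subtype_of_mem (p := fun χ : IrrCharacter G => N ≤ chKer χ)
        (f := fun χ : IrrCharacter G => (χ : G → ℂ) c * (χ : G → ℂ) 1)
        (fun χ hχ => (Finset.mem_filter.1 hχ).2)]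
      refine (Finset.sum_bij (fun ψ _ => inflEquiv N ψ) ?_ ?_ ?_ ?_).symm
      · intro ψ _
        rw [Finset.mem_subtype, Finset.mem_filter]
        exact ⟨Finset.mem_univ _, (inflEquiv N ψ).2⟩
      · intro ψ _ ψ' _ h
        exact (inflEquiv N).injective h
      · intro χ _
        exact ⟨(inflEquiv N).symm χ, Finset.mem_univ _, (inflEquiv N).apply_symm_apply χ⟩
      · intro ψ _
        rw [inflEquiv_apply, inflEquiv_apply, QuotientGroup.mk_one]
        congr 1
        rw [← charDegree_irr, Complex.conj_natCast]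
    rw [e1, col_orth]
    have e2 : IsConj (c : G ⧸ N) 1 ↔ c ∈ N := by
      rw [isConj_one_left, QuotientGroup.eq_one_iff]
    have e3 : Nat.card (Subgroup.centralizer ({(1 : G ⧸ N)} : Set (G ⧸ N))) = N.index := by
      have e4 : Subgroup.centralizer ({(1 : G ⧸ N)} : Set (G ⧸ N)) = ⊤ := by
        rw [eq_top_iff]
        intro y _
        rw [Subgroup.mem_centralizer_singleton_iff, one_mul, mul_one]
      rw [e4, Nat.card_congr Subgroup.topEquiv.toEquiv]
      rfl
    rw [e3]
    by_cases hc : c ∈ N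
    · rw [if_pos (e2.2 hc), if_pos hc]
    · rw [if_neg (fun h => hc (e2.1 h)), if_neg hc]
  have h2 : ∑ χ ∈ Finset.univ.filter (fun χ : IrrCharacter G => N ≤ chKer χ),
      D L (χ : G → ℂ) * (χ : G → ℂ) 1 =
      (Nat.card (Subgroup.centralizer ({x} : Set G)) : ℂ)⁻¹ *
        ∑ c : Subgroup.centralizer ({x} : Set G), (if (c : G) ∈ N then (N.index : ℂ) else 0) *
          (1 - conj ((L c : ℂˣ) : ℂ)) := by
    unfold D
    simp_rw [mul_assoc, Finset.sum_mul]
    rw [← Finset.mul_sum, Finset.sum_comm]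
    congr 1
    refine Finset.sum_congr rfl fun c _ => ?_
    rw [← h1 c, Finset.sum_mul]
    exact Finset.sum_congr rfl fun χ _ => by ring
  -- the linear character restricted to `C ∩ N`
  set M : Subgroup (Subgroup.centralizer ({x} : Set G)) :=
    N.subgroupOf (Subgroup.centralizer ({x} : Set G)) with hM
  have h3 : ∑ c : Subgroup.centralizer ({x} : Set G), (if (c : G) ∈ N then (N.index : ℂ) else 0) *
      (1 - conj ((L c : ℂˣ) : ℂ)) = (N.index : ℂ) * Nat.card M := by
    have e1 : ∀ c : Subgroup.centralizer ({x} : Set G),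
        (if (c : G) ∈ N then (N.index : ℂ) else 0) * (1 - conj ((L c : ℂˣ) : ℂ)) =
        (N.index : ℂ) * ((if c ∈ M then 1 else 0) -
          conj ((if c ∈ M then ((L c : ℂˣ) : ℂ) else 0))) := by
      intro c
      have e2 : c ∈ M ↔ (c : G) ∈ N := by rw [hM, Subgroup.mem_subgroupOf]
      by_cases hc : (c : G) ∈ N
      · rw [if_pos hc, if_pos (e2.2 hc), if_pos (e2.2 hc)]
      · rw [if_neg hc, if_neg (fun h => hc (e2.1 h)), if_neg (fun h => hc (e2.1 h))]
        simp
    rw [Finset.sum_congr rfl fun c _ => e1 c, ← Finset.mul_sum, Finset.sum_sub_distrib, ← map_sum]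
    have e3 : ∑ c : Subgroup.centralizer ({x} : Set G),
        (if c ∈ M then ((L c : ℂˣ) : ℂ) else 0) = 0 := by
      set x' : Subgroup.centralizer ({x} : Set G) := ⟨x, mem_cent.2 rfl⟩ with hx'
      have hxM : x' ∈ M := by
        rw [hM, Subgroup.mem_subgroupOf]
        exact hxN
      have e4 : ∑ c : Subgroup.centralizer ({x} : Set G),
          (if c ∈ M then ((L c : ℂˣ) : ℂ) else 0) = ((L x' : ℂˣ) : ℂ) *
          ∑ c : Subgroup.centralizer ({x} : Set G), (if c ∈ M then ((L c : ℂˣ) : ℂ) else 0) := by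
        rw [Finset.mul_sum]
        refine (Fintype.sum_equiv (Equiv.mulLeft x') _ _ fun c => ?_).symm
        rw [Equiv.coe_mulLeft]
        have e5 : x' * c ∈ M ↔ c ∈ M := Subgroup.mul_mem_cancel_left M hxM
        by_cases hc : c ∈ M
        · rw [if_pos hc, if_pos (e5.2 hc), map_mul, Units.val_mul]
        · rw [if_neg hc, if_neg (fun h => hc (e5.1 h)), mul_zero]
      have e5 : (1 - ((L x' : ℂˣ) : ℂ)) * ∑ c : Subgroup.centralizer ({x} : Set G),
          (if c ∈ M then ((L c : ℂˣ) : ℂ) else 0) = 0 := by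
        rw [sub_mul, one_mul, ← e4, sub_self]
      rcases mul_eq_zero.1 e5 with e6 | e6
      · exact absurd (Units.ext (sub_eq_zero.1 e6).symm) hLx
      · exact e6
    rw [e3, map_zero, sub_zero]
    congr 1
    rw [Finset.sum_ite, Finset.sum_const_zero, add_zero, Finset.sum_const, nsmul_eq_mul, mul_one,
      Nat.card_eq_fintype_card, Fintype.card_subtype]
  rw [h2, h3]
  have h4 : (Nat.card (Subgroup.centralizer ({x} : Set G)) : ℂ) =
      Nat.card M * (N.relIndex (Subgroup.centralizer ({x} : Set G)) : ℂ) := by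
    rw [← Nat.cast_mul]
    congr 1
    exact (Subgroup.card_mul_index M).symm
  have h5 : (Nat.card M : ℂ) ≠ 0 := by exact_mod_cast Nat.card_pos.ne'
  have h6 : (N.relIndex (Subgroup.centralizer ({x} : Set G)) : ℂ) ≠ 0 := by
    intro h
    rw [h, mul_zero] at h4
    exact hcard h4
  rw [h4]
  field_simp

/-- The integers `[χ_C, 1 - L]`. -/
theorem setup {p : ℕ} (hp : p.Prime) (hp2 : p ≠ 2) (hsq : ¬ p ^ 2 ∣ Nat.card G) {x : G}
    (hx : orderOf x = p) (hinv : IsConj x x⁻¹) [Fintype (IrrCharacter G)] [Fintype G] :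
    ∃ z : IrrCharacter G → ℤ, ∑ χ, z χ * (charDegree (χ : G → ℂ) : ℤ) = 0 ∧
      ∑ χ, ind χ * z χ = 1 ∧ (∀ χ, z (irrConj χ) = z χ) ∧
      (∀ χ : IrrCharacter G, p ∣ charDegree (χ : G → ℂ) → z χ = 0) ∧
      ∀ (N : Subgroup G) [N.Normal], x ∈ N → ∀ m : ℕ,
        N.index = m * N.relIndex (Subgroup.centralizer ({x} : Set G)) →
        ∀ [DecidablePred fun χ : IrrCharacter G => N ≤ chKer χ],
        ∑ χ ∈ Finset.univ.filter (fun χ : IrrCharacter G => N ≤ chKer χ),
          z χ * (charDegree (χ : G → ℂ) : ℤ) = m := by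
  classical
  obtain ⟨L, hL⟩ := exists_lam hp hsq hx
  obtain ⟨g, hg⟩ := isConj_iff.1 hinv
  choose z hz using fun χ : IrrCharacter G => D_int L (isIrr_isCharacter χ.2)
  have hdvd : p ∣ Nat.card G := hx ▸ orderOf_dvd_natCard x
  refine ⟨z, ?_, ?_, ?_, ?_, ?_⟩
  · have h2 := sum_D_deg (G := G) L
    have h3 : ((∑ χ : IrrCharacter G, z χ * (charDegree (χ : G → ℂ) : ℤ) : ℤ) : ℂ) = 0 := by
      rw [← h2]
      push_cast
      refine Finset.sum_congr rfl fun χ _ => ?_
      rw [hz, charDegree_irr]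
    exact_mod_cast h3
  · have h3 := sum_ind_D hp hsq hx L hL hp2
    have h4 : ((∑ χ : IrrCharacter G, ind χ * z χ : ℤ) : ℂ) = 1 := by
      rw [← h3]
      push_cast
      refine Finset.sum_congr rfl fun χ _ => ?_
      rw [hz]
    exact_mod_cast h4
  · intro χ
    have h3 := D_conj hp hsq hx L hL hg χ
    rw [hz, hz] at h3
    exact_mod_cast h3
  · intro χ h
    have h3 := D_eq_zero hp hsq L hL hdvd χ h
    rw [hz] at h3
    exact_mod_cast h3
  · intro N _ hxN m hm _
    have hLx : L ⟨x, mem_cent.2 rfl⟩ ≠ 1 := by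
      intro h
      rw [hL] at h
      exact h (by show p ∣ orderOf x; rw [hx])
    have h1 := sum_T L hLx N hxN
    have h2 : (N.relIndex (Subgroup.centralizer ({x} : Set G)) : ℂ) ≠ 0 := by
      intro h
      have h3 : N.relIndex (Subgroup.centralizer ({x} : Set G)) = 0 := by exact_mod_cast h
      rw [h3, mul_zero] at hm
      exact Subgroup.index_ne_zero_of_finite hm
    rw [hm, Nat.cast_mul] at h1
    have h3 := mul_right_cancel₀ h2 h1
    have h4 : ((∑ χ ∈ Finset.univ.filter (fun χ : IrrCharacter G => N ≤ chKer χ),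
        z χ * (charDegree (χ : G → ℂ) : ℤ) : ℤ) : ℂ) = (m : ℂ) := by
      rw [← h3]
      push_cast
      refine Finset.sum_congr rfl fun χ _ => ?_
      rw [hz, charDegree_irr]
    exact_mod_cast h4

theorem charDegree_irrConj (χ : IrrCharacter G) :
    charDegree (irrConj χ : G → ℂ) = charDegree (χ : G → ℂ) := by
  have h3 : (charDegree (irrConj χ : G → ℂ) : ℂ) = charDegree (χ : G → ℂ) := by
    rw [charDegree_irr, irrConj_apply, ← charDegree_irr, Complex.conj_natCast]
  exact_mod_cast h3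

theorem ind_irrConj [Fintype G] (χ : IrrCharacter G) : ind (irrConj χ) = ind χ := by
  have h3 := (ind_spec (irrConj χ)).2.1
  have h4 := (ind_spec χ).2.1
  have h5 : (ind (irrConj χ) : ℂ) = ind χ := by
    rw [← h3]
    have h6 : (Nat.card G : ℂ)⁻¹ * ∑ s : G, (irrConj χ : G → ℂ) (s * s) =
        conj ((Nat.card G : ℂ)⁻¹ * ∑ s : G, (χ : G → ℂ) (s * s)) := by
      rw [map_mul, map_inv₀, map_natCast, map_sum]
      rfl
    rw [h6, h4]
    exact map_intCast _ _
  exact_mod_cast h5

theorem chKer_irrConj (χ : IrrCharacter G) : chKer (irrConj χ) = chKer χ := by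
  ext g
  rw [mem_chKer, mem_chKer, irrConj_apply, irrConj_apply]
  exact ⟨fun h => (starRingEnd ℂ).injective h, fun h => by rw [h]⟩

theorem ind_odd [Fintype G] (χ : IrrCharacter G) (hreal : ∀ g : G, ((χ : G → ℂ) g).im = 0) :
    Odd (ind χ) := by
  have h3 := ind_spec χ
  have h4 : ind χ ≠ 0 := by
    intro h
    obtain ⟨g, hg⟩ := h3.2.2.1 h
    exact hg (hreal g)
  rcases h3.1 with h | h | h
  · exact absurd h h4
  · rw [h]; decide
  · rw [h]; decide

/-- An odd sum of integers, invariant under complex conjugation, has an odd term at a real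
character. -/
theorem exists_real_of_odd_sum_int [Fintype G] [Fintype (IrrCharacter G)] (f : IrrCharacter G → ℤ)
    (hf : ∀ χ, f (irrConj χ) = f χ) (hodd : Odd (∑ χ, f χ)) :
    ∃ χ : IrrCharacter G, (∀ g, ((χ : G → ℂ) g).im = 0) ∧ Odd (f χ) := by
  classical
  obtain ⟨χ, h1, h2⟩ := exists_real_of_odd_sum (fun χ => (f χ).natAbs) (fun χ => by rw [hf]) (by
    rw [← Nat.not_even_iff_odd, ← Int.even_coe_nat, Nat.cast_sum]
    intro hev
    apply Int.not_even_iff_odd.2 hodd
    rw [← ZMod.intCast_eq_zero_iff_even] at hev ⊢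
    rw [← hev]
    push_cast
    refine Finset.sum_congr rfl fun χ _ => ?_
    have h4 : ((|f χ| : ℤ) : ZMod 2) = ((f χ : ℤ) : ZMod 2) := by
      rcases abs_choice (f χ) with h | h
      · rw [h]
      · rw [h, Int.cast_neg, CharTwo.neg_eq]
    exact h4.symm)
  exact ⟨χ, h1, Int.natAbs_odd.1 h2⟩

/-- **The even character.** -/
theorem prime_even' {p : ℕ} (hp : p.Prime) (hp2 : p ≠ 2) (hsq : ¬ p ^ 2 ∣ Nat.card G) {x : G}
    (hx : orderOf x = p) (hinv : IsConj x x⁻¹) :
    ∃ χ : IrrCharacter G, (∀ g : G, ((χ : G → ℂ) g).im = 0) ∧ Even (charDegree (χ : G → ℂ)) ∧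
      ¬ p ∣ charDegree (χ : G → ℂ) := by
  classical
  have := Fintype.ofFinite G
  have := finite_irr (G := G)
  have := Fintype.ofFinite (IrrCharacter G)
  obtain ⟨z, h1, h2, hzc, hz0, -⟩ := setup hp hp2 hsq hx hinv
  obtain ⟨χ, hreal, hodd⟩ := exists_real_of_odd_sum_int
    (fun χ : IrrCharacter G => z χ * (charDegree (χ : G → ℂ) + ind χ))
    (fun χ => by rw [hzc, charDegree_irrConj, ind_irrConj]) (by
      have h4 : ∑ χ : IrrCharacter G, z χ * (charDegree (χ : G → ℂ) + ind χ) = 1 := by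
        rw [← zero_add (1 : ℤ), ← h1, ← h2, ← Finset.sum_add_distrib]
        exact Finset.sum_congr rfl fun χ _ => by ring
      rw [h4]
      decide)
  rw [Int.odd_mul] at hodd
  have hind := ind_odd χ hreal
  refine ⟨χ, hreal, ?_, fun h => ?_⟩
  · have h3 : Even (charDegree (χ : G → ℂ) : ℤ) := by
      by_contra h4
      rw [Int.not_even_iff_odd] at h4
      exact (Int.not_even_iff_odd.2 hodd.2) (h4.add_odd hind)
    exact_mod_cast h3
  · rw [hz0 χ h] at hodd
    exact absurd hodd.1 (by decide)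

/-- Irreducible characters trivial on a subgroup containing the commutator subgroup are linear. -/
theorem charDegree_of_le {N : Subgroup G} [N.Normal] (hab : commutator G ≤ N)
    (χ : IrrCharacter G) (h : N ≤ chKer χ) : charDegree (χ : G → ℂ) = 1 := by
  obtain ⟨ψ, rfl⟩ := exists_infl N χ h
  have h1 : IsMulCommutative (G ⧸ N) :=
    Subgroup.Normal.quotient_commutative_iff_commutator_le.2 hab
  have h2 := Cfsg.Agent.S0898.irr_one_of_comm (fun a b : G ⧸ N => h1.is_comm.comm a b) ψ.2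
  rw [charDegree_eq_one_iff, infl_apply]
  exact h2

theorem not_le_chKer_iff {N : Subgroup G} (χ : IrrCharacter G) :
    ¬ N ≤ chKer χ ↔ ∃ n ∈ N, (χ : G → ℂ) n ≠ (χ : G → ℂ) 1 := by
  rw [SetLike.not_le_iff_exists]
  rfl

/-- **The even character.** A real irreducible character of even degree prime to `p`, not trivial
on the normal subgroup `N`, if `G / N` is abelian. -/
theorem prime_even {p : ℕ} (hp : p.Prime) (hp2 : p ≠ 2) (hsq : ¬ p ^ 2 ∣ Nat.card G) {x : G}
    (hx : orderOf x = p) (hinv : IsConj x x⁻¹) (N : Subgroup G) [N.Normal]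
    (hab : commutator G ≤ N) :
    ∃ b, Even b ∧ ¬ p ∣ b ∧ Cfsg.Agent.H619.R4.RD G N b := by
  obtain ⟨χ, h1, h2, h3⟩ := prime_even' hp hp2 hsq hx hinv
  refine ⟨_, h2, h3, χ, h1, ?_, rfl⟩
  rw [← not_le_chKer_iff]
  intro h
  rw [charDegree_of_le hab χ h] at h2
  exact absurd h2 (by decide)

/-- **The odd character.** A real irreducible character of odd degree prime to `p`, not trivial
on the normal subgroup `N` containing `x`, if `|G : C N|` is odd. -/
theorem prime_odd {p : ℕ} (hp : p.Prime) (hp2 : p ≠ 2) (hsq : ¬ p ^ 2 ∣ Nat.card G) {x : G}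
    (hx : orderOf x = p) (hinv : IsConj x x⁻¹) (N : Subgroup G) [N.Normal] (hxN : x ∈ N) {m : ℕ}
    (hm : Odd m) (hidx : N.index = m * N.relIndex (Subgroup.centralizer ({x} : Set G))) :
    ∃ a, Odd a ∧ ¬ p ∣ a ∧ Cfsg.Agent.H619.R4.RD G N a := by
  classical
  have := Fintype.ofFinite G
  have := finite_irr (G := G)
  have := Fintype.ofFinite (IrrCharacter G)
  obtain ⟨z, h1, -, hzc, hz0, hT⟩ := setup hp hp2 hsq hx hinv
  have h2 := hT N hxN m hidx
  obtain ⟨χ, hreal, hodd⟩ := exists_real_of_odd_sum_int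
    (fun χ : IrrCharacter G => if N ≤ chKer χ then 0 else z χ * (charDegree (χ : G → ℂ) : ℤ))
    (fun χ => by rw [hzc, charDegree_irrConj, chKer_irrConj]) (by
      have h4 : ∑ χ : IrrCharacter G, (if N ≤ chKer χ then 0 else
          z χ * (charDegree (χ : G → ℂ) : ℤ)) = -(m : ℤ) := by
        rw [← h2]
        rw [Finset.sum_ite, Finset.sum_const_zero, zero_add, eq_neg_iff_add_eq_zero, ← h1, add_comm]
        exact Finset.sum_filter_add_sum_filter_not _ _ _
      rw [h4, odd_neg]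
      exact_mod_cast hm)
  by_cases hN : N ≤ chKer χ
  · rw [if_pos hN] at hodd
    exact absurd hodd (by decide)
  rw [if_neg hN, Int.odd_mul] at hodd
  refine ⟨charDegree (χ : G → ℂ), by exact_mod_cast hodd.2, fun h => ?_, χ, hreal,
    (not_le_chKer_iff χ).1 hN, rfl⟩
  rw [hz0 χ h] at hodd
  exact absurd hodd.1 (by decide)

/-- At most `|C(w)|` irreducible characters do not vanish at `w`. -/
theorem card_ne_zero_le (w : G) :
    Nat.card {χ : IrrCharacter G // (χ : G → ℂ) w ≠ 0} ≤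
      Nat.card (Subgroup.centralizer ({w} : Set G)) := by
  classical
  have := Fintype.ofFinite G
  have := finite_irr (G := G)
  have := Fintype.ofFinite (IrrCharacter G)
  set X : Finset G := Finset.univ.filter fun g => ∃ m : ℕ, m.Coprime (Nat.card G) ∧ w ^ m = g with hX
  have hwX : w ∈ X := by
    rw [hX, Finset.mem_filter]
    exact ⟨Finset.mem_univ _, 1, Nat.coprime_one_left _, pow_one w⟩
  have hXpos : 0 < X.card := Finset.card_pos.2 ⟨w, hwX⟩
  have hclosed : ∀ g ∈ X, ∀ m : ℕ, m.Coprime (Nat.card G) → g ^ m ∈ X := by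
    intro g hg m hm
    rw [hX, Finset.mem_filter] at hg ⊢
    obtain ⟨-, k, hk, rfl⟩ := hg
    exact ⟨Finset.mem_univ _, k * m, Nat.Coprime.mul_left hk hm, by rw [pow_mul]⟩
  have hcent : ∀ g ∈ X, Nat.card (Subgroup.centralizer ({g} : Set G)) =
      Nat.card (Subgroup.centralizer ({w} : Set G)) := by
    intro g hg
    rw [hX, Finset.mem_filter] at hg
    obtain ⟨-, k, hk, rfl⟩ := hg
    have h2 : Subgroup.centralizer ({w ^ k} : Set G) = Subgroup.centralizer ({w} : Set G) := by
      have hk' : k.Coprime (orderOf w) := hk.coprime_dvd_right (orderOf_dvd_natCard w)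
      ext x
      rw [Subgroup.mem_centralizer_singleton_iff, Subgroup.mem_centralizer_singleton_iff]
      constructor
      · intro hx
        have h1 : w ∈ Subgroup.zpowers (w ^ k) := by
          rw [mem_zpowers_pow_iff]
          exact hk'
        rw [← mem_powers_iff_mem_zpowers] at h1
        obtain ⟨l, hl⟩ := h1
        have h3 : Commute x ((w ^ k) ^ l) := Commute.pow_right (show Commute x (w ^ k) from hx) l
        have h4 : (w ^ k) ^ l = w := hl
        rw [h4] at h3
        exact h3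
      · intro hx
        exact Commute.pow_right (show Commute x w from hx) k
    rw [h2]
  set Y : Finset (IrrCharacter G) := Finset.univ.filter fun χ => (χ : G → ℂ) w ≠ 0 with hY
  have key : ∀ χ ∈ Y, (X.card : ℝ) ≤ ∑ g ∈ X, ‖(χ : G → ℂ) g‖ ^ 2 := by
    intro χ hχ
    have h1 := Cfsg.Agent.OddOrderCharacters.PF13.SumBound.card_le_sum_sq ({()} : Finset Unit)
      (fun _ g => (χ : G → ℂ) g) (fun _ _ => isGeneralizedCharacter_def.2
        ⟨_, 0, isIrr_isCharacter χ.2, isCharacter_zero, by rw [sub_zero]⟩) X hclosed ?_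
    · simpa using h1
    · intro g hg
      refine ⟨(), Finset.mem_singleton_self _, fun h0 => (Finset.mem_filter.1 hχ).2 ?_⟩
      rw [hX, Finset.mem_filter] at hg
      obtain ⟨-, k, hk, rfl⟩ := hg
      exact (Cfsg.Agent.H710.VanCount.zero_pow_iff χ
        (hk.coprime_dvd_right (orderOf_dvd_natCard w))).1 h0
  have h1 : (X.card : ℝ) * Y.card ≤ ∑ χ : IrrCharacter G, ∑ g ∈ X, ‖(χ : G → ℂ) g‖ ^ 2 := by
    rw [mul_comm, ← nsmul_eq_mul, ← Finset.sum_const]
    refine (Finset.sum_le_sum key).trans ?_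
    exact Finset.sum_le_sum_of_subset_of_nonneg (Finset.subset_univ _)
      fun χ _ _ => Finset.sum_nonneg fun g _ => by positivity
  have h2 : ∑ χ : IrrCharacter G, ∑ g ∈ X, ‖(χ : G → ℂ) g‖ ^ 2 =
      (X.card : ℝ) * Nat.card (Subgroup.centralizer ({w} : Set G)) := by
    rw [Finset.sum_comm]
    have h3 : ∀ g ∈ X, ∑ χ : IrrCharacter G, ‖(χ : G → ℂ) g‖ ^ 2 =
        (Nat.card (Subgroup.centralizer ({w} : Set G)) : ℝ) := by
      intro g hg
      rw [Cfsg.Agent.SmallSimple.SelfCentSum.sum_norm_sq, hcent g hg]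
    rw [Finset.sum_congr rfl h3, Finset.sum_const, nsmul_eq_mul]
  rw [h2] at h1
  have h3 : (Y.card : ℝ) ≤ (Nat.card (Subgroup.centralizer ({w} : Set G)) : ℝ) :=
    le_of_mul_le_mul_left h1 (by exact_mod_cast hXpos)
  have h4 : Nat.card {χ : IrrCharacter G // (χ : G → ℂ) w ≠ 0} = Y.card := by
    rw [Nat.card_eq_fintype_card, Fintype.card_subtype]
  rw [h4]
  exact_mod_cast h3

/-- `(1 + t)² ≤ r |G|`, `r` the number of real irreducible characters, `t` the number of
involutions. -/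
theorem sq_le_real_mul_card :
    (1 + Nat.card {g : G // orderOf g = 2}) ^ 2 ≤
      Nat.card {χ : IrrCharacter G // ∀ g : G, ((χ : G → ℂ) g).im = 0} * Nat.card G := by
  classical
  have := Fintype.ofFinite G
  have := finite_irr (G := G)
  have := Fintype.ofFinite (IrrCharacter G)
  set R : Finset (IrrCharacter G) :=
    Finset.univ.filter fun χ => ∀ g : G, ((χ : G → ℂ) g).im = 0 with hR
  have h0 : Nat.card {χ : IrrCharacter G // ∀ g : G, ((χ : G → ℂ) g).im = 0} = R.card := by
    rw [Nat.card_eq_fintype_card, Fintype.card_subtype]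
  have h1 : (1 + Nat.card {g : G // orderOf g = 2} : ℤ) ≤
      ∑ χ ∈ R, (charDegree (χ : G → ℂ) : ℤ) := by
    have e1 : (1 + Nat.card {g : G // orderOf g = 2} : ℤ) =
        ∑ χ : IrrCharacter G, ind χ * (charDegree (χ : G → ℂ) : ℤ) := by
      have e2 := sum_ind (G := G) 1
      rw [card_sq_eq_one] at e2
      have e3 : ((∑ χ : IrrCharacter G, ind χ * (charDegree (χ : G → ℂ) : ℤ) : ℤ) : ℂ) =
          ((1 + Nat.card {g : G // orderOf g = 2} : ℤ) : ℂ) := by
        push_cast at e2 ⊢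
        rw [← e2]
        exact Finset.sum_congr rfl fun χ _ => by rw [charDegree_irr]
      exact (Int.cast_injective e3).symm
    rw [e1, hR, Finset.sum_filter]
    refine Finset.sum_le_sum fun χ _ => ?_
    split_ifs with h
    · rcases (ind_spec χ).1 with h2 | h2 | h2 <;> rw [h2] <;>
        · have := charDegree_pos χ
          omega
    · have h2 : ind χ = 0 := by
        rw [(ind_spec χ).2.2]
        push Not at h
        exact h
      rw [h2, zero_mul]
  have h2 : (∑ χ ∈ R, (charDegree (χ : G → ℂ) : ℤ)) ^ 2 ≤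
      (R.card : ℤ) * ∑ χ ∈ R, (charDegree (χ : G → ℂ) : ℤ) ^ 2 := sq_sum_le_card_mul_sum_sq
  have h3 : ∑ χ ∈ R, (charDegree (χ : G → ℂ) : ℤ) ^ 2 ≤ Nat.card G := by
    have e1 := sum_deg_sq (G := G)
    have e2 : (∑ χ : IrrCharacter G, (charDegree (χ : G → ℂ) : ℤ) ^ 2) = Nat.card G := by
      exact_mod_cast e1
    rw [← e2]
    exact Finset.sum_le_sum_of_subset_of_nonneg (Finset.subset_univ _) fun χ _ _ => by positivity
  have h4 : ((1 + Nat.card {g : G // orderOf g = 2}) ^ 2 : ℤ) ≤ R.card * Nat.card G := by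
    calc ((1 + Nat.card {g : G // orderOf g = 2}) ^ 2 : ℤ)
        ≤ (∑ χ ∈ R, (charDegree (χ : G → ℂ) : ℤ)) ^ 2 :=
          pow_le_pow_left₀ (by positivity) h1 2
      _ ≤ _ := h2
      _ ≤ _ := mul_le_mul_of_nonneg_left h3 (by positivity)
  rw [h0]
  exact_mod_cast h4

/-- A real irreducible character vanishing at `w`. -/
theorem exists_real_zero (w : G) {r : ℕ}
    (hr : r ≤ Nat.card {χ : IrrCharacter G // ∀ g : G, ((χ : G → ℂ) g).im = 0})
    (hw : Nat.card {χ : IrrCharacter G // (χ : G → ℂ) w ≠ 0} < r) :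
    ∃ χ : IrrCharacter G, (∀ g : G, ((χ : G → ℂ) g).im = 0) ∧ (χ : G → ℂ) w = 0 := by
  classical
  by_contra hcon
  push Not at hcon
  have := finite_irr (G := G)
  have h1 : Nat.card {χ : IrrCharacter G // ∀ g : G, ((χ : G → ℂ) g).im = 0} ≤
      Nat.card {χ : IrrCharacter G // (χ : G → ℂ) w ≠ 0} := by
    refine Nat.card_le_card_of_injective (fun χ => ⟨χ.1, hcon χ.1 χ.2⟩) fun χ ψ h => ?_
    have h2 : (⟨χ.1, hcon χ.1 χ.2⟩ : {χ : IrrCharacter G // (χ : G → ℂ) w ≠ 0}) =
      ⟨ψ.1, hcon ψ.1 ψ.2⟩ := h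
    exact Subtype.ext (Subtype.mk.inj h2)
  omega

/-- A character vanishing at an element of prime order `p` has degree divisible by `p`. -/
theorem dvd_of_zero {p : ℕ} (hp : p.Prime) {x : G} (hx : orderOf x = p) (χ : IrrCharacter G)
    (h0 : (χ : G → ℂ) x = 0) : p ∣ charDegree (χ : G → ℂ) := by
  classical
  have : Fintype (Subgroup.zpowers x) := Fintype.ofFinite _
  have h1 : IsCharacter (Subgroup.zpowers x) (fun c : Subgroup.zpowers x => (χ : G → ℂ) c) :=
    Cfsg.Agent.Characters.Clifford.isCharacter_restrict _ (isIrr_isCharacter χ.2)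
  obtain ⟨m, hm⟩ := classInner_isNat h1 (isCharacter_one (G := Subgroup.zpowers x))
  have h2 : ∀ c : Subgroup.zpowers x, c ≠ 1 → (χ : G → ℂ) c = 0 := by
    intro c hc
    have h3 : orderOf c ∣ p := by
      have := orderOf_dvd_natCard c
      rwa [Nat.card_zpowers, hx] at this
    obtain ⟨k, hk⟩ := (mem_powers_iff_mem_zpowers.2 c.2)
    have hk' : x ^ k = (c : G) := hk
    have h4 : k.Coprime (orderOf x) := by
      rw [hx, Nat.coprime_comm, hp.coprime_iff_not_dvd]
      intro h5
      apply hc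
      apply Subtype.ext
      rw [← hk', Subgroup.coe_one, ← orderOf_dvd_iff_pow_eq_one, hx]
      exact h5
    rw [← hk']
    exact Cfsg.Agent.H710.VanCount.zero_pow χ h0 h4
  rw [classInner_def, Finset.sum_eq_single (1 : Subgroup.zpowers x) (fun c _ hc => by
    rw [h2 c hc, zero_mul]) (fun h => absurd (Finset.mem_univ _) h), Nat.card_zpowers, hx,
    Pi.one_apply, map_one, mul_one, Subgroup.coe_one, ← charDegree_irr] at hm
  have h3 : (p : ℂ) ≠ 0 := by exact_mod_cast hp.ne_zero
  have h4 : (charDegree (χ : G → ℂ) : ℂ) = p * m := by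
    rw [← hm]
    field_simp
  exact ⟨m, by exact_mod_cast h4⟩

/-- **A real character of degree divisible by `p`.** -/
theorem prime_dvd {p : ℕ} (hp : p.Prime) {x : G} (hx : orderOf x = p) (N : Subgroup G)
    (hxN : x ∈ N) {r : ℕ}
    (hr : r ≤ Nat.card {χ : IrrCharacter G // ∀ g : G, ((χ : G → ℂ) g).im = 0})
    (hw : Nat.card {χ : IrrCharacter G // (χ : G → ℂ) x ≠ 0} < r) :
    ∃ c, p ∣ c ∧ Cfsg.Agent.H619.R4.RD G N c := by
  obtain ⟨χ, h1, h2⟩ := exists_real_zero x hr hw
  refine ⟨_, dvd_of_zero hp hx χ h2, χ, h1, ⟨x, hxN, ?_⟩, rfl⟩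
  rw [h2]
  exact (isIrr_apply_one_ne_zero χ.2).symm

/-- **The criterion, general form.** -/
theorem prime_three' {p : ℕ} (hp : p.Prime) (hp2 : p ≠ 2) (hsq : ¬ p ^ 2 ∣ Nat.card G) {x : G}
    (hx : orderOf x = p) (hinv : IsConj x x⁻¹) (N : Subgroup G) [N.Normal] (hxN : x ∈ N)
    (hab : commutator G ≤ N) {m : ℕ}
    (hm : Odd m) (hidx : N.index = m * N.relIndex (Subgroup.centralizer ({x} : Set G))) {r : ℕ}
    (hr : r ≤ Nat.card {χ : IrrCharacter G // ∀ g : G, ((χ : G → ℂ) g).im = 0})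
    (hw : Nat.card {χ : IrrCharacter G // (χ : G → ℂ) x ≠ 0} < r) :
    Cfsg.Agent.H619.R4.R3 G N := by
  obtain ⟨b, hb, hpb, h1⟩ := prime_even hp hp2 hsq hx hinv N hab
  obtain ⟨a, ha, hpa, h2⟩ := prime_odd hp hp2 hsq hx hinv N hxN hm hidx
  obtain ⟨c, hpc, h3⟩ := prime_dvd hp hx N hxN hr hw
  refine ⟨a, b, c, ?_, ?_, ?_, h2, h1, h3⟩
  · rintro rfl
    exact Nat.not_even_iff_odd.2 ha hb
  · rintro rfl
    exact hpa hpc
  · rintro rfl
    exact hpb hpc

/-- **The criterion, counting involutions.** -/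
theorem prime_three {p : ℕ} (hp : p.Prime) (hp2 : p ≠ 2) (hsq : ¬ p ^ 2 ∣ Nat.card G) {x : G}
    (hx : orderOf x = p) (hinv : IsConj x x⁻¹) (N : Subgroup G) [N.Normal] (hxN : x ∈ N)
    (hab : commutator G ≤ N) {m : ℕ}
    (hm : Odd m) (hidx : N.index = m * N.relIndex (Subgroup.centralizer ({x} : Set G)))
    (h : Nat.card (Subgroup.centralizer ({x} : Set G)) * Nat.card G <
      (1 + Nat.card {g : G // orderOf g = 2}) ^ 2) :
    Cfsg.Agent.H619.R4.R3 G N := by
  refine prime_three' hp hp2 hsq hx hinv N hxN hab hm hidx le_rfl ?_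
  refine (card_ne_zero_le x).trans_lt ?_
  exact Nat.lt_of_mul_lt_mul_right (h.trans_le sq_le_real_mul_card)

end Cfsg.Agent.H90.R4.Prime
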