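import Cfsg.Agent.H619.R4.RankTab
import Cfsg.Agent.H619.R4.SporBase
import Cfsg.Agent.H305.SporHS
import Cfsg.Agent.H904.HSIso
import Cfsg.Agent.H713.Two.Sing
import Cfsg.Agent.KFacts.HS.Base
import Cfsg.Agent.H665.SporCo
import Cfsg.Agent.H462.RealJ.Crit
import Cfsg.Agent.H419.Row

/-!
# The row `HS` of S4554 (helper90)

`p = 7`: `|C(x)| = 7`, `x` is conjugate to all its nontrivial powers; the real character of degree 77
of the rank 3 action on 100 points.
-/

set_option autoImplicit false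

namespace Cfsg.Agent.H90.R4.HS

open Cfsg Cfsg.Agent.H619.R4

universe u

theorem rc77 : RC Spor.HS 77 := by
  obtain ⟨⟨e⟩, -⟩ := Cfsg.Agent.HN.AutHS.nonempty_Q
  exact (rc_hs Cfsg.Agent.H305.SporHS.r3).2.congr e

/-- **the row `HS`** -/
theorem row_HS {S : Type u} [Group S] (h : Spor.IsoHS S) : Row S := by
  have hidx := Cfsg.Agent.KFacts.HS.index_inn h
  have h' := h
  obtain ⟨e⟩ := h
  have hc : Nat.card S = 44352000 := by
    rw [Nat.card_congr e.toEquiv, Cfsg.Agent.H665.SporCo.card_HS]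
  have hfin : Finite S := Nat.finite_of_card_ne_zero (by rw [hc]; norm_num)
  obtain ⟨⟨f⟩, hs⟩ := Cfsg.Agent.HN.AutHS.nonempty_Q
  have hsim : IsSimpleGroup S := (e.trans f.symm).isSimpleGroup
  have hp : Fact (Nat.Prime 7) := ⟨by norm_num⟩
  have hna : ¬ IsMulCommutative S := by
    intro hm
    exact Cfsg.Agent.H462.RealJ.nonab_of_card (G := S) (by rw [hc]; norm_num) fun x y => hm.1.1 x y
  have hf : (Nat.card S).factorization 7 = 1 := by
    rw [hc]
    exact Cfsg.Agent.H419.Row.factorization_eq (by norm_num) (m := 6336000) (by norm_num) (by norm_num)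
  obtain ⟨x, hx⟩ := exists_prime_orderOf_dvd_card' (G := S) 7 (by rw [hc]; norm_num)
  have hC := Cfsg.Agent.H904.HSIso.card_seven h' hx
  refine row_two_prime hna (by rw [hidx]) (p := 7) (by norm_num) hf hx (fun j hj =>
    Cfsg.Agent.H713.Two.Sing.isConj_pow_of_full hx ?_ hj) (rc77.congr e.symm) (by decide) (by norm_num)
  rw [Cfsg.Agent.H713.Two.Sing.card_fus_eq hf hx hC (e := 6) (by rw [hc])]

end Cfsg.Agent.H90.R4.HS
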