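import Cfsg.Agent.H90.R4.RowTools
import Cfsg.Agent.H462.RealJ.JThreeFour
import Cfsg.Agent.H877.IMJ4
import Cfsg.Agent.S2068

/-!
# The row `J4` of S4554 (helper90)
-/

set_option autoImplicit false

namespace Cfsg.Agent.H90.R4

open Cfsg Cfsg.Agent.H619.R4 Subgroup
open Cfsg.Agent.H723.Spor.JFour Cfsg.Agent.H877.IMJ4

universe u

theorem card_cent_two {G : Type*} [Group G] [Finite G] [IsSimpleGroup G] (hG : ¬ IsMulCommutative G) {z : G}
    (h : IsOfJankoFourTypeAt z) {t : G} (ht : orderOf t = 2) (hzt : ¬ IsConj z t) :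
    Nat.card (centralizer ({t} : Set G)) = 1816657920 := by
  obtain ⟨V, K, hV, hK, hn, hea, hc, hi, hs, ⟨e⟩⟩ := Cfsg.Agent.S5569.result hG z h t ht hzt
  have hVn : (V.subgroupOf (centralizer ({t} : Set G))).Normal := by
    constructor
    intro x hx y
    rw [mem_subgroupOf] at hx ⊢
    exact ((mem_normalizer_iff.1 (hn y.2)) x).1 hx
  have hcomp : IsComplement' (V.subgroupOf (centralizer ({t} : Set G)))
      (K.subgroupOf (centralizer ({t} : Set G))) := by
    apply isComplement'_of_disjoint_and_mul_eq_univ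
    · rw [disjoint_iff, eq_bot_iff]
      rintro x ⟨h1, h2⟩
      rw [mem_bot]
      apply Subtype.ext
      have h3 : (x : G) ∈ K ⊓ V := ⟨h2, h1⟩
      rw [hi] at h3
      exact mem_bot.1 h3
    · rw [Set.eq_univ_iff_forall]
      rintro ⟨x, hx⟩
      have h3 : x ∈ K ⊔ V := by rw [hs]; exact hx
      have hKn : K ≤ normalizer (V : Set G) := hK.trans hn
      have h4 : x ∈ ((V ⊔ K : Subgroup G) : Set G) := by rw [sup_comm]; exact h3
      rw [coe_mul_of_right_le_normalizer_left V K hKn] at h4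
      obtain ⟨v, hv, k, hk, rfl⟩ := h4
      exact ⟨⟨v, hV hv⟩, hv, ⟨k, hK hk⟩, hk, rfl⟩
  have h5 := hcomp.card_mul
  rw [← h5, Nat.card_congr (subgroupOfEquivOfLe hV).toEquiv, Nat.card_congr (subgroupOfEquivOfLe hK).toEquiv, hc,
    Nat.card_congr e.toEquiv, Cfsg.Agent.H856.AutM22.card_aut]
  norm_num

theorem three_J4 : R3 Spor.J4 ⊤ := by
  have hfin : Finite Spor.J4 := finJ4
  have hsim : IsSimpleGroup Spor.J4 := simple
  have hcJ : Nat.card Spor.J4 = 86775571046077562880 := Cfsg.Agent.S1703.result.2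
  have hp23 : Fact (Nat.Prime 23) := ⟨by norm_num⟩
  obtain ⟨x, hx, hr⟩ := Cfsg.Agent.H462.RealJ.real_J4 (p := 23) (by norm_num) (by norm_num)
    (by rw [hcJ]; norm_num)
  have hC := cent_big (p := 23) (by simp) hx
  obtain ⟨z, hz⟩ := Cfsg.Agent.H337.isOfJankoFourType_of_isoJ4 (G := Spor.J4) ⟨MulEquiv.refl _⟩
  obtain ⟨t, ht, hzt⟩ : ∃ t : Spor.J4, orderOf t = 2 ∧ ¬ IsConj z t := by
    obtain ⟨s, t, hs, ht, hst⟩ := two_classes
    by_cases h : IsConj z s
    · exact ⟨t, ht, fun h' => hst (h.symm.trans h')⟩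
    · exact ⟨s, hs, h⟩
  exact RowTools.R3_of (p := 23) (by norm_num) (by norm_num) (by rw [hcJ]; norm_num) hx hr (k := 23)
    (c := 1816657920) hC.le ht (card_cent_two nonab hz ht hzt).le (by rw [hcJ]; norm_num)

/-- **the row `J4`** -/
theorem row_J4 {S : Type u} [Group S] (h : Spor.IsoJ4 S) : Row S := by
  obtain ⟨e⟩ := h
  refine RowTools.row_one ?_ (RowTools.R3_congr e three_J4)
  rw [H55.OutGen.card_out_congr e, S2068.result]

end Cfsg.Agent.H90.R4
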