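import Cfsg.Agent.H90.R4.RowTools
import Cfsg.Agent.H462.RealJ.JOneTwo
import Cfsg.Agent.S2065

/-!
# The row `J1` of S4554 (helper90)
-/

set_option autoImplicit false

namespace Cfsg.Agent.H90.R4

open Cfsg Cfsg.Agent.H619.R4 Cfsg.Agent.H413.JOneSpec Subgroup
open Cfsg.Agent.SporadicB.J1.Main
open Cfsg.Spor (J1)

universe u

theorem three_J1 : R3 J1 ⊤ := by
  have hcJ : Nat.card J1 = 175560 := isJ1.2
  have hsJ : IsSimpleGroup J1 := isJ1.1
  have hfin : Finite J1 := Nat.finite_of_card_ne_zero (by rw [hcJ]; norm_num)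
  have hL : Cfsg.Agent.SporRec.J1.Defs.Local J1 := Cfsg.Agent.H413.JOneLocal.isLocal
  have hp7 : Fact (Nat.Prime 7) := ⟨by norm_num⟩
  obtain ⟨x, hx, hr⟩ := Cfsg.Agent.H462.RealJ.real_J1 (K := J1) hL hcJ (p := 7) (by norm_num)
    (by rw [hcJ]; norm_num)
  have hd : 7 ∣ Nat.card (centralizer ({x} : Set J1)) := by
    have := mem_cent_dvd (x := x) (y := x) rfl
    rwa [hx] at this
  obtain ⟨m, hm⟩ := hd
  have hm1 : m = 1 := by
    refine Cfsg.Agent.H462.RealJ.cent_prime hL hcJ (p := 7) (by norm_num) (Or.inl rfl) (P := zpowers x)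
      (by rw [Nat.card_zpowers, hx]) ?_
    rw [H858.NormC.centralizer_zpowers, hm]
  have hp2 : Fact (Nat.Prime 2) := ⟨by norm_num⟩
  obtain ⟨z, hz⟩ := exists_prime_orderOf_dvd_card' (G := J1) 2 (by rw [hcJ]; norm_num)
  exact RowTools.R3_of (p := 7) (by norm_num) (by norm_num) (by rw [hcJ]; norm_num) hx hr (k := 7) (c := 120)
    (by rw [hm, hm1]) hz (card_cent_two hL hz).le (by rw [hcJ]; norm_num)

/-- **the row `J1`** -/
theorem row_J1 {S : Type u} [Group S] (h : Spor.IsoJ1 S) : Row S := by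
  obtain ⟨e⟩ := h
  refine RowTools.row_one ?_ (RowTools.R3_congr e three_J1)
  rw [H55.OutGen.card_out_congr e, S2065.result]

end Cfsg.Agent.H90.R4
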