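import Mathlib

/-!
# A linear character of `C(x)` detecting the `p`-singular elements (helper90, for S4554)

`x` an element of prime order `p`, `p ^ 2` does not divide the order of the finite group `G`.
-/

set_option autoImplicit false
set_option linter.unusedSectionVars false

namespace Cfsg.Agent.H90.R4.Lam

universe u
variable {G : Type u} [Group G] [Finite G]

omit [Finite G] in
theorem mem_cent {x g : G} : g ∈ Subgroup.centralizer ({x} : Set G) ↔ g * x = x * g := by
  rw [Subgroup.mem_centralizer_singleton_iff]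

/-- A power of prime order generates the same subgroup as any other element of order `p`. -/
theorem mem_zpowers_of_dvd {p : ℕ} (hp : p.Prime) (hsq : ¬ p ^ 2 ∣ Nat.card G) {x c : G}
    (hx : orderOf x = p) (hc : c * x = x * c) (hpc : p ∣ orderOf c) : x ∈ Subgroup.zpowers c := by
  have : Fact p.Prime := ⟨hp⟩
  obtain ⟨m, hm⟩ := hpc
  have hm0 : 0 < m := by
    rcases Nat.eq_zero_or_pos m with h | h
    · exfalso
      rw [h, mul_zero] at hm
      exact (orderOf_pos c).ne' hm
    · exact h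
  set y : G := c ^ m with hy
  have hyo : orderOf y = p := by
    rw [hy, orderOf_pow, hm, Nat.gcd_eq_right (Dvd.intro_left p rfl), Nat.mul_div_cancel _ hm0]
  have hyx : Commute y x := Commute.pow_left (show Commute c x from hc) m
  -- `⟨x⟩⟨y⟩` is a `p`-group
  by_contra hcon
  have hxy : x ∉ Subgroup.zpowers y := fun h => hcon (by
    refine (Subgroup.zpowers_le.2 ?_) h
    exact Subgroup.pow_mem _ (Subgroup.mem_zpowers c) m)
  apply hsq
  have hdis : Subgroup.zpowers x ⊓ Subgroup.zpowers y = ⊥ := by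
    by_contra hne
    have h1 : Nat.card (Subgroup.zpowers x ⊓ Subgroup.zpowers y : Subgroup G) ∣ p := by
      rw [← hx, ← Nat.card_zpowers]
      exact Subgroup.card_dvd_of_le inf_le_left
    rcases (Nat.dvd_prime hp).1 h1 with h2 | h2
    · exact hne (Subgroup.card_eq_one.1 h2)
    · have h3 : (Subgroup.zpowers x ⊓ Subgroup.zpowers y : Subgroup G) = Subgroup.zpowers x := by
        apply Subgroup.eq_of_le_of_card_ge inf_le_left
        rw [h2, Nat.card_zpowers, hx]
      exact hxy (inf_eq_left.1 h3 (Subgroup.mem_zpowers x))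
  -- a homomorphism from the product
  have hcomm : ∀ a : Subgroup.zpowers x, ∀ b : Subgroup.zpowers y,
      Commute ((Subgroup.zpowers x).subtype a) ((Subgroup.zpowers y).subtype b) := by
    rintro ⟨_, i, rfl⟩ ⟨_, j, rfl⟩
    exact (hyx.symm.zpow_left i).zpow_right j
  let f : Subgroup.zpowers x × Subgroup.zpowers y →* G :=
    MonoidHom.noncommCoprod (Subgroup.zpowers x).subtype (Subgroup.zpowers y).subtype hcomm
  have hf : Function.Injective f := by
    rw [injective_iff_map_eq_one]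
    rintro ⟨a, b⟩ hab
    have h1 : (a : G) * (b : G) = 1 := hab
    have h2 : (a : G) ∈ (Subgroup.zpowers x ⊓ Subgroup.zpowers y : Subgroup G) := by
      refine ⟨a.2, ?_⟩
      rw [eq_inv_of_mul_eq_one_left h1]
      exact (Subgroup.zpowers y).inv_mem b.2
    rw [hdis, Subgroup.mem_bot] at h2
    have h3 : (b : G) = 1 := by
      rw [h2, one_mul] at h1
      exact h1
    exact Prod.ext (Subtype.ext h2) (Subtype.ext h3)
  have h4 := Subgroup.card_subgroup_dvd_card f.range
  rw [← Nat.card_congr (MonoidHom.ofInjective hf).toEquiv, Nat.card_prod, Nat.card_zpowers,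
    Nat.card_zpowers, hx, hyo] at h4
  rwa [pow_two]

/-- **The linear character.** -/
theorem exists_lam {p : ℕ} (hp : p.Prime) (hsq : ¬ p ^ 2 ∣ Nat.card G) {x : G}
    (hx : orderOf x = p) :
    ∃ L : Subgroup.centralizer ({x} : Set G) →* ℂˣ, ∀ c, L c = 1 ↔ ¬ p ∣ orderOf (c : G) := by
  classical
  have : Fact p.Prime := ⟨hp⟩
  set C := Subgroup.centralizer ({x} : Set G) with hC
  have hxC : x ∈ C := mem_cent.2 rfl
  set x' : C := ⟨x, hxC⟩ with hx'
  have hx'o : orderOf x' = p := by rw [← hx, ← Subgroup.orderOf_coe]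
  have hpg : IsPGroup p (Subgroup.zpowers x') :=
    IsPGroup.of_card (n := 1) (by rw [pow_one, Nat.card_zpowers, hx'o])
  obtain ⟨P, hP⟩ := hpg.exists_le_sylow
  have hcardP : Nat.card (P : Subgroup C) = p := by
    obtain ⟨k, hk⟩ := IsPGroup.iff_card.1 P.2
    have h1 : Nat.card (P : Subgroup C) ∣ Nat.card G :=
      (Subgroup.card_subgroup_dvd_card _).trans (Subgroup.card_subgroup_dvd_card C)
    have h2 : p ∣ Nat.card (P : Subgroup C) := by
      have h3 := Subgroup.card_dvd_of_le hP
      rwa [Nat.card_zpowers, hx'o] at h3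
    rw [hk] at h1 h2 ⊢
    rcases Nat.lt_or_ge k 2 with h3 | h3
    · interval_cases k
      · rw [pow_zero] at h2
        exact absurd (Nat.dvd_one.1 h2) hp.one_lt.ne'
      · rw [pow_one]
    · exact absurd ((pow_dvd_pow p h3).trans h1) hsq
  have hPx : (P : Subgroup C) = Subgroup.zpowers x' := by
    symm
    apply Subgroup.eq_of_le_of_card_ge hP
    rw [hcardP, Nat.card_zpowers, hx'o]
  have hcen : (P : Subgroup C) ≤ Subgroup.center C := by
    rw [hPx, Subgroup.zpowers_le, Subgroup.mem_center_iff]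
    intro c
    exact Subtype.ext (mem_cent.1 c.2)
  have hPN : Subgroup.normalizer ((P : Subgroup C) : Set C) ≤
      Subgroup.centralizer ((P : Subgroup C) : Set C) := by
    intro c _
    rw [Subgroup.mem_centralizer_iff]
    intro z hz
    exact ((Subgroup.mem_center_iff.1 (hcen hz)) c).symm
  let V := MonoidHom.transferSylow P hPN
  -- a faithful character of `P`
  have hcyc : IsCyclic (P : Subgroup C) := isCyclic_of_prime_card hcardP
  let inst : CommGroup (P : Subgroup C) := IsCyclic.commGroup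
  have hxP : x' ∈ (P : Subgroup C) := hPx ▸ Subgroup.mem_zpowers x'
  have hne : (⟨x', hxP⟩ : (P : Subgroup C)) ≠ 1 := by
    intro h
    have h1 : x' = 1 := congrArg Subtype.val h
    rw [h1, orderOf_one] at hx'o
    exact hp.one_lt.ne hx'o
  obtain ⟨lam, hlam⟩ := CommGroup.exists_apply_ne_one_of_hasEnoughRootsOfUnity
    (P : Subgroup C) ℂ hne
  have hinj : Function.Injective lam := by
    rw [← MonoidHom.ker_eq_bot_iff]
    have h1 : Nat.card lam.ker ∣ p := by
      have h0 := Subgroup.card_subgroup_dvd_card lam.ker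
      rwa [hcardP] at h0
    rcases (Nat.dvd_prime hp).1 h1 with h2 | h2
    · exact Subgroup.card_eq_one.1 h2
    · exfalso
      have h3 : lam.ker = ⊤ := by
        apply Subgroup.eq_top_of_card_eq
        rw [h2, hcardP]
      apply hlam
      have h4 : (⟨x', hxP⟩ : (P : Subgroup C)) ∈ lam.ker := by
        rw [h3]
        exact Subgroup.mem_top _
      exact h4
  refine ⟨lam.comp V, fun c => ?_⟩
  have hc1 : (lam.comp V) c = 1 ↔ V c = 1 := by
    rw [MonoidHom.comp_apply]
    constructor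
    · intro h
      exact hinj (by rw [h, map_one])
    · intro h
      rw [h, map_one]
  rw [hc1, Subgroup.orderOf_coe]
  constructor
  · intro h h2
    have h3 : c ∈ V.ker := h
    have h4 := Subgroup.orderOf_dvd_natCard _ h3
    exact MonoidHom.not_dvd_card_ker_transferSylow P hPN (h2.trans h4)
  · intro h
    have h1 : orderOf (V c) ∣ orderOf c := orderOf_map_dvd _ _
    have h2 : orderOf (V c) ∣ p := by
      have h0 := orderOf_dvd_natCard (V c)
      rwa [hcardP] at h0
    rcases (Nat.dvd_prime hp).1 h2 with h3 | h3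
    · exact orderOf_eq_one_iff.1 h3
    · rw [h3] at h1
      exact absurd h1 h

/-- Every element is a power of `x` times an element of the kernel. -/
theorem exists_pow_mul {p : ℕ} (hp : p.Prime) (hsq : ¬ p ^ 2 ∣ Nat.card G) {x : G}
    (hx : orderOf x = p) (L : Subgroup.centralizer ({x} : Set G) →* ℂˣ)
    (hL : ∀ c, L c = 1 ↔ ¬ p ∣ orderOf (c : G)) (c : Subgroup.centralizer ({x} : Set G)) :
    ∃ i : ℕ, ∃ k : Subgroup.centralizer ({x} : Set G), L k = 1 ∧
      c = ⟨x, mem_cent.2 rfl⟩ ^ i * k := by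
  set x' : Subgroup.centralizer ({x} : Set G) := ⟨x, mem_cent.2 rfl⟩ with hx'
  have hx'o : orderOf x' = p := by rw [← hx, ← Subgroup.orderOf_coe]
  have hprim : IsPrimitiveRoot ((L x' : ℂˣ) : ℂ) p := by
    have h1 : ((L x' : ℂˣ) : ℂ) ^ p = 1 := by
      rw [← Units.val_pow_eq_pow_val, ← map_pow, ← hx'o, pow_orderOf_eq_one, map_one, Units.val_one]
    have h2 : ((L x' : ℂˣ) : ℂ) ≠ 1 := by
      intro h
      have h3 : L x' = 1 := Units.ext h
      rw [hL] at h3
      exact h3 (by rw [Subgroup.orderOf_coe, hx'o])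
    have h3 : orderOf ((L x' : ℂˣ) : ℂ) = p := by
      have : Fact p.Prime := ⟨hp⟩
      exact orderOf_eq_prime h1 h2
    rw [← h3]
    exact IsPrimitiveRoot.orderOf _
  have hcp : ((L c : ℂˣ) : ℂ) ^ p = 1 := by
    -- `c ^ p` has order prime to `p`
    have h1 : L (c ^ p) = 1 := by
      rw [hL]
      intro h
      by_cases h2 : p ∣ orderOf c
      · rw [Subgroup.orderOf_coe, orderOf_pow_of_dvd hp.ne_zero h2] at h
        obtain ⟨m, hm⟩ := h
        have h3 : orderOf c = p * p * m := by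
          rw [mul_assoc, ← hm, Nat.mul_div_cancel' h2]
        apply hsq
        have h4 : p ^ 2 ∣ orderOf c := ⟨m, by rw [h3, pow_two]⟩
        exact h4.trans ((orderOf_dvd_natCard c).trans (Subgroup.card_subgroup_dvd_card _))
      · rw [Subgroup.orderOf_coe] at h
        exact h2 (h.trans (orderOf_pow_dvd p))
    rw [← Units.val_pow_eq_pow_val, ← map_pow, h1, Units.val_one]
  have hne0 : NeZero p := ⟨hp.ne_zero⟩
  obtain ⟨i, -, hi⟩ := hprim.eq_pow_of_pow_eq_one hcp
  refine ⟨i, (x' ^ i)⁻¹ * c, ?_, by rw [mul_inv_cancel_left]⟩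
  rw [map_mul, map_inv, map_pow]
  have h1 : L x' ^ i = L c := Units.ext (by rw [Units.val_pow_eq_pow_val]; exact hi)
  rw [h1, inv_mul_cancel]

/-- An element inverting `x` inverts the linear character. -/
theorem lam_conj {p : ℕ} (hp : p.Prime) (hsq : ¬ p ^ 2 ∣ Nat.card G) {x : G}
    (hx : orderOf x = p) (L : Subgroup.centralizer ({x} : Set G) →* ℂˣ)
    (hL : ∀ c, L c = 1 ↔ ¬ p ∣ orderOf (c : G)) {g : G} (hg : g * x * g⁻¹ = x⁻¹)
    (c : Subgroup.centralizer ({x} : Set G)) (h : g * c * g⁻¹ ∈ Subgroup.centralizer ({x} : Set G)) :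
    L ⟨g * c * g⁻¹, h⟩ = (L c)⁻¹ := by
  obtain ⟨i, k, hk, hc⟩ := exists_pow_mul hp hsq hx L hL c
  set x' : Subgroup.centralizer ({x} : Set G) := ⟨x, mem_cent.2 rfl⟩ with hx'
  have hcen : ∀ y ∈ Subgroup.centralizer ({x} : Set G), g * y * g⁻¹ ∈
      Subgroup.centralizer ({x} : Set G) := by
    intro y hy
    rw [mem_cent] at hy ⊢
    have h1 : g⁻¹ * x * g = x⁻¹ := by
      have h2 := congrArg (fun z => z⁻¹) hg
      simp only [mul_inv_rev, inv_inv] at h2
      -- `g * x⁻¹ * g⁻¹ = x`
      calc g⁻¹ * x * g = g⁻¹ * (g * (x⁻¹ * g⁻¹)) * g := by rw [h2]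
        _ = x⁻¹ := by group
    have h2 : y * x⁻¹ = x⁻¹ * y := by
      have h3 : Commute y x := hy
      exact h3.inv_right
    calc g * y * g⁻¹ * x = g * (y * (g⁻¹ * x * g)) * g⁻¹ := by group
      _ = g * (x⁻¹ * y) * g⁻¹ := by rw [h1, h2]
      _ = g * ((g⁻¹ * x * g) * y) * g⁻¹ := by rw [h1]
      _ = x * (g * y * g⁻¹) := by group
  have h1 : (⟨g * c * g⁻¹, h⟩ : Subgroup.centralizer ({x} : Set G)) =
      (x' ^ i)⁻¹ * ⟨g * k * g⁻¹, hcen k k.2⟩ := by
    apply Subtype.ext
    rw [Subgroup.coe_mul, Subgroup.coe_inv, Subgroup.coe_pow]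
    show g * (c : G) * g⁻¹ = (x ^ i)⁻¹ * (g * k * g⁻¹)
    have hc' : (c : G) = x ^ i * k := by
      rw [hc, Subgroup.coe_mul, Subgroup.coe_pow]
    rw [hc']
    have h2 : g * x ^ i * g⁻¹ = (x ^ i)⁻¹ := by
      rw [← conj_pow, hg, inv_pow]
    calc g * (x ^ i * (k : G)) * g⁻¹ = (g * x ^ i * g⁻¹) * (g * k * g⁻¹) := by group
      _ = _ := by rw [h2]
  have h2 : L ⟨g * k * g⁻¹, hcen k k.2⟩ = 1 := by
    rw [hL] at hk ⊢
    have h3 : orderOf (g * (k : G) * g⁻¹) = orderOf (k : G) := by
      have := MulEquiv.orderOf_eq (MulAut.conj g) (k : G)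
      rwa [MulAut.conj_apply] at this
    rw [h3]
    exact hk
  rw [h1, map_mul, h2, mul_one, map_inv]
  congr 1
  conv_rhs => rw [hc, map_mul, hk, mul_one]

end Cfsg.Agent.H90.R4.Lam
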